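import Mathlib
import Cfsg.Agent.S1475
import Cfsg.Agent.OddOrderLocal.HallPi

/-!
# Three primes dividing the order of a solvable group (Higman, Lucido)

`three_primes`: for three distinct primes dividing the order of a finite solvable group, some
element has order the product of two of them.
-/

set_option autoImplicit false

namespace Cfsg.Agent.H496.ThreePrimes

/-- An element whose order is divisible by two distinct primes has a power of order their product. -/
theorem exists_orderOf_eq_mul {G : Type*} [Group G] [Finite G] {a b : ℕ} (g : G)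
    (h : a * b ∣ orderOf g) : ∃ k : ℕ, orderOf (g ^ k) = a * b := by
  obtain ⟨c, hc⟩ := h
  have hc0 : c ≠ 0 := by
    rintro rfl
    have := orderOf_pos g
    omega
  refine ⟨c, ?_⟩
  rw [orderOf_pow_of_dvd hc0 ⟨a * b, by rw [hc, mul_comm]⟩, hc]
  exact Nat.mul_div_cancel _ (Nat.pos_of_ne_zero hc0)

/-- An integer `> 1` with at most one prime divisor is a prime power. -/
theorem isPrimePow_of_forall {n : ℕ} (hn : 1 < n)
    (h : ∀ a b : ℕ, a.Prime → b.Prime → a ∣ n → b ∣ n → a = b) : IsPrimePow n := by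
  rw [isPrimePow_iff_unique_prime_dvd]
  refine ⟨n.minFac, ⟨Nat.minFac_prime (by omega), Nat.minFac_dvd n⟩, ?_⟩
  rintro y ⟨hy1, hy2⟩
  exact h _ _ hy1 (Nat.minFac_prime (by omega)) hy2 (Nat.minFac_dvd n)

/-- **Three primes**: for three distinct primes dividing the order of a finite solvable group,
some element has order the product of two of them. -/
theorem three_primes {G : Type*} [Group G] [Finite G] [Group.IsSolvable G] {p q r : ℕ}
    (hp : p.Prime) (hq : q.Prime) (hr : r.Prime) (hpq : p ≠ q) (hpr : p ≠ r) (hqr : q ≠ r)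
    (hpG : p ∣ Nat.card G) (hqG : q ∣ Nat.card G) (hrG : r ∣ Nat.card G) :
    (∃ g : G, orderOf g = p * q) ∨ (∃ g : G, orderOf g = p * r) ∨ (∃ g : G, orderOf g = q * r) := by
  by_contra hcon
  push Not at hcon
  obtain ⟨h1, h2, h3⟩ := hcon
  set π : Set ℕ := {p, q, r} with hπ
  obtain ⟨K, hK1, hK2, -⟩ := Cfsg.Agent.OddOrderLocal.HallPi.exists_hall_ge_top (G := G) π
    (X := ⊥) (by
      intro s hs h
      rw [Subgroup.card_bot] at h
      exact absurd (Nat.dvd_one.mp h) hs.one_lt.ne')
  have hne : ∀ a b : ℕ, a ∈ π → b ∈ π → a ≠ b → ∀ g : G, orderOf g ≠ a * b := by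
    intro a b ha hb hab g hg
    simp only [hπ, Set.mem_insert_iff, Set.mem_singleton_iff] at ha hb
    rcases ha with rfl | rfl | rfl <;> rcases hb with rfl | rfl | rfl
    · exact hab rfl
    · exact h1 g hg
    · exact h2 g hg
    · exact h1 g (by rw [hg, mul_comm])
    · exact hab rfl
    · exact h3 g hg
    · exact h2 g (by rw [hg, mul_comm])
    · exact h3 g (by rw [hg, mul_comm])
    · exact hab rfl
  have hEppo : ∀ g : K, IsPrimePow (orderOf g) ∨ g = 1 := by
    intro g
    by_cases hg : g = 1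
    · exact Or.inr hg
    left
    have hg1 : 1 < orderOf g := by
      have := orderOf_pos g
      have h4 : orderOf g ≠ 1 := by rwa [Ne, orderOf_eq_one_iff]
      omega
    apply isPrimePow_of_forall hg1
    intro a b ha hb hag hbg
    by_contra hab
    have hdvd : a * b ∣ orderOf g :=
      Nat.Coprime.mul_dvd_of_dvd_of_dvd ((Nat.coprime_primes ha hb).mpr hab) hag hbg
    obtain ⟨k, hk⟩ := exists_orderOf_eq_mul g hdvd
    have haK : a ∈ π := hK1 a ha (hag.trans (orderOf_dvd_natCard g))
    have hbK : b ∈ π := hK1 b hb (hbg.trans (orderOf_dvd_natCard g))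
    refine hne a b haK hbK hab ((g ^ k : K) : G) ?_
    rw [Subgroup.orderOf_coe, hk]
  have hle := Cfsg.Agent.S1475.result (G := K) hEppo
  have hdiv : ∀ a : ℕ, a.Prime → a ∈ π → a ∣ Nat.card G → a ∈ (Nat.card K).primeFactors := by
    intro a ha haπ haG
    rw [Nat.mem_primeFactors]
    refine ⟨ha, ?_, Nat.card_pos.ne'⟩
    rw [← K.card_mul_index] at haG
    exact (ha.dvd_mul.mp haG).resolve_right (hK2 a ha haπ)
  have hsub : ({p, q, r} : Finset ℕ) ⊆ (Nat.card K).primeFactors := by
    intro a ha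
    simp only [Finset.mem_insert, Finset.mem_singleton] at ha
    rcases ha with rfl | rfl | rfl
    · exact hdiv _ hp (by simp [hπ]) hpG
    · exact hdiv _ hq (by simp [hπ]) hqG
    · exact hdiv _ hr (by simp [hπ]) hrG
  have hcard := Finset.card_le_card hsub
  rw [Finset.card_eq_three.mpr ⟨p, q, r, hpq, hpr, hqr, rfl⟩] at hcard
  omega

/-- Three primes up to `n ≥ 7`, the product of any two of which exceeds `n`. -/
theorem exists_primes {n : ℕ} (hn : 7 ≤ n) :
    ∃ p q r : ℕ, p.Prime ∧ q.Prime ∧ r.Prime ∧ p < q ∧ q < r ∧ r ≤ n ∧ n < p * q := by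
  rcases Nat.lt_or_ge n 15 with h1 | h1
  · exact ⟨3, 5, 7, by norm_num, by norm_num, by norm_num, by norm_num, by norm_num, hn, by omega⟩
  rcases Nat.lt_or_ge n 35 with h2 | h2
  · exact ⟨5, 7, 11, by norm_num, by norm_num, by norm_num, by norm_num, by norm_num, by omega,
      by omega⟩
  obtain ⟨a, ha⟩ : ∃ a, a = n / 8 := ⟨_, rfl⟩
  have ha4 : 4 ≤ a := by omega
  obtain ⟨p, hp, hp1, hp2⟩ := Nat.exists_prime_lt_and_le_two_mul a (by omega)
  obtain ⟨q, hq, hq1, hq2⟩ := Nat.exists_prime_lt_and_le_two_mul (2 * a) (by omega)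
  obtain ⟨r, hr, hr1, hr2⟩ := Nat.exists_prime_lt_and_le_two_mul (4 * a) (by omega)
  refine ⟨p, q, r, hp, hq, hr, by omega, by omega, by omega, ?_⟩
  have h3 : (a + 1) * (2 * a + 1) ≤ p * q := Nat.mul_le_mul hp1 hq1
  have h4 : 4 * a ≤ a * a := Nat.mul_le_mul_right a ha4
  have h5 : n ≤ 8 * a + 7 := by omega
  nlinarith

end Cfsg.Agent.H496.ThreePrimes
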