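import Cfsg.Agent.H496.CommSyl
import Cfsg.Agent.H344.List81

/-!
# Known simple groups with nonabelian Sylow `3`-subgroups of order `27` and exponent `3` (helper496)

`list27` : such a group is one of `L_3(3)`, `U_3(3)`, `G_2(q)`, `²F_4(q)`, `²F_4(2)'`, `M_12`, `M_24`, `J_2`, `J_4`,
`He`, `Ru`. (The exponent is not needed.)
-/

set_option autoImplicit false

namespace Cfsg.Agent.H496

open Cfsg OrdDiv Cfsg.Agent.H341.ThreeList Cfsg.Agent.H344.List81

universe u

/-- The kinds of known simple groups with nonabelian Sylow `3`-subgroups of order 27. -/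
inductive Kind27 (S : Type u) [Group S] : Prop
  | psl3 (F : Type) (_ : Field F) (_ : Fintype F) (hq : Fintype.card F = 3)
      (e : Nonempty (S ≃* Matrix.ProjectiveSpecialLinearGroup (Fin 3) F)) : Kind27 S
  | psu3 (F : Type) (_ : Field F) (_ : Fintype F) (hF : Fintype.card F = 3 ^ 2)
      (e : Nonempty (S ≃* PSU 3 F 3)) : Kind27 S
  | g2 (F : Type) (_ : Field F) (_ : Fintype F) (h3 : 3 ≤ Fintype.card F) (hq : ¬ 3 ∣ Fintype.card F)
      (h9 : ¬ 9 ∣ Fintype.card F ^ 2 - 1) (e : Nonempty (S ≃* ↥(Lie.chevG2.group F))) : Kind27 S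
  | tf4 (F : Type) (_ : Field F) (_ : Fintype F) (m : ℕ) (hm : 1 ≤ m) (hF : Fintype.card F = 2 ^ (2 * m + 1))
      (h9 : ¬ 9 ∣ 2 ^ (2 * m + 1) + 1) (e : Nonempty (S ≃* ↥(Lie.twistedF4 F (2 ^ m)))) : Kind27 S
  | tits (h : Lie.IsoTits S) : Kind27 S
  | m12 (h : Spor.IsoM12 S) : Kind27 S
  | m24 (h : Spor.IsoM24 S) : Kind27 S
  | j2 (h : Spor.IsoJ2 S) : Kind27 S
  | j4 (h : Spor.IsoJ4 S) : Kind27 S
  | he (h : Spor.IsoHe S) : Kind27 S
  | ru (h : Spor.IsoRu S) : Kind27 S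

section Arith

variable {q : ℕ}

theorem mod_sub {n m : ℕ} (h1 : 1 ≤ n) (h : n % m = 1) : m ∣ n - 1 := by
  apply Nat.dvd_of_mod_eq_zero
  have h2 : n = m * (n / m) + 1 := by rw [← h, Nat.div_add_mod]
  rw [h2, Nat.add_sub_cancel]
  exact Nat.mul_mod_right _ _

/-- `9 ∣ q - 1` or `9 ∣ q + 1` -/
theorem sq9 (hq : 1 ≤ q) (h : q % 9 = 1 ∨ q % 9 = 8) : 9 ∣ q ^ 2 - 1 := by
  refine mod_sub (Nat.one_le_pow _ _ hq) ?_
  rcases h with h | h <;> rw [Nat.pow_mod, h]

theorem four9 (hq : 1 ≤ q) (h : 9 ∣ q ^ 2 - 1) : 9 ∣ q ^ 4 - 1 := by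
  have := Nat.sub_dvd_pow_sub_pow (q ^ 2) 1 2
  rw [one_pow, ← pow_mul] at this
  exact h.trans this

end Arith

/-- **Known simple groups with nonabelian Sylow `3`-subgroups of order 27.** -/
theorem list27' (T : OrderTable.{u}) {S : Type u} [Group S] [Finite S] (h : IsKnownSimple' S)
    (h27 : 27 ∣ Nat.card S) (h81 : ¬ 81 ∣ Nat.card S) (hnc : ¬ CommSyl 3 S) : Kind27 S := by
  haveI : Fact (Nat.Prime 3) := ⟨Nat.prime_three⟩
  have h81' : ¬ 3 ^ 4 ∣ Nat.card S := h81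
  have hna : ¬ ∀ a b : S, a * b = b * a := fun hc => hnc (fun P _ x _ y _ => hc x y)
  have h243 : ¬ 3 ^ 5 ∣ Nat.card S := fun h5 => h81' ((pow_dvd_pow 3 (by norm_num)).trans h5)
  rcases kind_of_known T h hna h27 h243 with ⟨n, h9, h11, ⟨e⟩⟩ | ⟨F, _, _, hq, ⟨e⟩⟩ | ⟨F, _, _, hq, ⟨e⟩⟩ |
    ⟨F, _, _, hq, ⟨e⟩⟩ | ⟨F, i1, i2, hq, e⟩ | ⟨F, _, _, hq, ⟨e⟩⟩ | ⟨F, _, _, n, hn, hq, ⟨e⟩⟩ |
    ⟨F, _, _, n, hn, hq, ⟨e⟩⟩ | ⟨F, _, _, q, hF, hq, ⟨e⟩⟩ | ⟨F, _, _, q, hF, hq, ⟨e⟩⟩ | ⟨F, i1, i2, hF, e⟩ |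
    ⟨F, _, _, q, hF, hq, ⟨e⟩⟩ | ⟨F, _, _, n, q, hn, hF, hq, ⟨e⟩⟩ | ⟨F, _, _, n, q, hn, hF, hq, ⟨e⟩⟩ |
    ⟨F, _, _, hq, ⟨e⟩⟩ | ⟨F, _, _, hq, ⟨e⟩⟩ | ⟨F, _, _, hq, ⟨e⟩⟩ | ⟨F, _, _, hq, ho, ⟨e⟩⟩ |
    ⟨F, _, _, a, b, hq, hab, ⟨e⟩⟩ | ⟨F, i1, i2, h3, hq, h9, e⟩ | ⟨F, _, _, q, hq, hF, h3, ⟨e⟩⟩ |
    ⟨F, i1, i2, m, hm, hF, h9, e⟩ | h | h | h | h | h | h | h | h
  · -- alternating groups
    exfalso
    refine h81' (dvd_of_mul (d := 2) (by norm_num) (alt_card (by omega) e).symm ?_)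
    have : n = 9 ∨ n = 10 ∨ n = 11 := by omega
    rcases this with rfl | rfl | rfl <;> decide
  · -- `L_2(q)`
    exact absurd ((CommSyl.PSLtwo F (by norm_num)).congr e.symm) hnc
  · -- `L_3(q)`, `9 ∣ q - 1`
    exfalso
    rw [Nat.card_congr e.toEquiv] at h81'
    have hc := card_psl (F := F) (n := 3) (by norm_num)
    have hq1 : 1 < Fintype.card F := Fintype.one_lt_card
    generalize Fintype.card F = q at *
    rw [show 3 - 1 = 2 by rfl, Finset.prod_range_succ, Finset.prod_range_succ, Finset.prod_range_zero, one_mul,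
      show Nat.gcd 3 (q - 1) = 3 from Nat.gcd_eq_left ((by norm_num : 3 ∣ 9).trans hq)] at hc
    norm_num at hc
    have hm : q % 9 = 1 := by omega
    have h1 := sq9 (by omega) (Or.inl hm)
    have h2 : 27 ∣ q ^ 3 - 1 := by
      refine mod_sub (Nat.one_le_pow _ _ (by omega)) ?_
      have : q % 27 = 1 ∨ q % 27 = 10 ∨ q % 27 = 19 := by omega
      rcases this with h | h | h <;> rw [Nat.pow_mod, h]
    have h3 : 3 * 3 ^ 4 ∣ 3 * Nat.card (Matrix.ProjectiveSpecialLinearGroup (Fin 3) F) := by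
      rw [hc]
      apply Dvd.dvd.mul_left
      calc 3 * 3 ^ 4 ∣ 9 * 27 := by norm_num
        _ ∣ _ := mul_dvd_mul h1 h2
    exact h81' (Nat.dvd_of_mul_dvd_mul_left (by norm_num) h3)
  · -- `L_3(q)`, `27 ∣ q + 1`
    refine absurd ((CommSyl.PSL (n := 3) (rfl : Fintype.card F = _) (by omega) ?_).congr e.symm) hnc
    have h3 : ¬ 3 ∣ Fintype.card F := by omega
    have h0 : 0 < orderOf (Fintype.card F : ZMod 3) := H130.Homo.orderOf_pos_zmod h3
    have h1 : orderOf (Fintype.card F : ZMod 3) ≠ 1 := by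
      intro h1
      have h2 := (H130.Homo.dvd_pow_sub_one_iff h3 1).2 (by rw [h1])
      rw [pow_one] at h2
      omega
    omega
  · -- `L_3(3)`
    exact .psl3 F i1 i2 hq e
  · -- `L_4(q)`
    exfalso
    rw [Nat.card_congr e.toEquiv] at h81'
    have hc := card_psl (F := F) (n := 4) (by norm_num)
    have hq1 : 1 < Fintype.card F := Fintype.one_lt_card
    generalize Fintype.card F = q at *
    have hq3 : ¬ 3 ∣ q := by omega
    refine h81' (dvd_of_mul not_dvd_gcd_four hc (Dvd.dvd.mul_left ?_ _))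
    rw [show 4 - 1 = 3 by rfl, Finset.prod_range_succ, Finset.prod_range_succ, Finset.prod_range_succ,
      Finset.prod_range_zero, one_mul]
    calc 3 ^ 4 ∣ 3 * 9 * 3 := by norm_num
      _ ∣ _ := mul_dvd_mul (mul_dvd_mul (three_sq hq3) (nine_cube hq)) (three_four hq3)
  · -- `L_4(q)`, `L_5(q)`, `9 ∣ q + 1`
    exfalso
    rw [Nat.card_congr e.toEquiv] at h81'
    have hc := card_psl (F := F) (n := n) (by omega)
    have hq1 : 1 < Fintype.card F := Fintype.one_lt_card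
    generalize Fintype.card F = q at *
    have hg : ¬ 3 ∣ Nat.gcd n (q - 1) := fun h' => by
      have := h'.trans (Nat.gcd_dvd_right _ _)
      omega
    refine h81' (dvd_of_mul hg hc (Dvd.dvd.mul_left (dvd_trans ?_ (Finset.prod_dvd_prod_of_subset _ _ _
      (Finset.range_subset_range.2 (show 3 ≤ n - 1 by omega)))) _))
    have h1 := sq9 (q := q) (by omega) (Or.inr (by omega))
    have h2 := four9 (by omega) h1
    rw [Finset.prod_range_succ, Finset.prod_range_succ, Finset.prod_range_succ, Finset.prod_range_zero, one_mul]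
    calc 3 ^ 4 ∣ 9 * 1 * 9 := by norm_num
      _ ∣ _ := mul_dvd_mul (mul_dvd_mul h1 (one_dvd _)) h2
  · -- `L_6(q)`, `L_7(q)`
    exfalso
    rw [Nat.card_congr e.toEquiv] at h81'
    have hc := card_psl (F := F) (n := n) (by omega)
    have hq1 : 1 < Fintype.card F := Fintype.one_lt_card
    generalize Fintype.card F = q at *
    have hg : ¬ 3 ∣ Nat.gcd n (q - 1) := fun h' => by
      have := h'.trans (Nat.gcd_dvd_right _ _)
      omega
    have hq3 : ¬ 3 ∣ q := by omega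
    refine h81' (dvd_of_mul hg hc (Dvd.dvd.mul_left (dvd_trans ?_ (Finset.prod_dvd_prod_of_subset _ _ _
      (Finset.range_subset_range.2 (show 5 ≤ n - 1 by omega)))) _))
    rw [Finset.prod_range_succ, Finset.prod_range_succ, Finset.prod_range_succ, Finset.prod_range_succ,
      Finset.prod_range_succ, Finset.prod_range_zero, one_mul]
    calc 3 ^ 4 ∣ 3 * 1 * 3 * 1 * 9 := by norm_num
      _ ∣ _ := mul_dvd_mul (mul_dvd_mul (mul_dvd_mul (mul_dvd_mul (three_sq hq3) (one_dvd _)) (three_four hq3))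
        (one_dvd _)) (nine_six hq3)
  · -- `U_3(q)`, `9 ∣ q + 1`
    exfalso
    rw [Nat.card_congr e.toEquiv] at h81'
    have hc := card_psu (F := F) hF (n := 3) (by norm_num)
    rw [show 3 - 1 = 2 by rfl, Finset.prod_range_succ, Finset.prod_range_succ, Finset.prod_range_zero, one_mul,
      show Nat.gcd 3 (q + 1) = 3 from Nat.gcd_eq_left ((by norm_num : 3 ∣ 9).trans hq),
      if_pos (by decide), if_neg (by decide)] at hc
    norm_num at hc
    have hq1 : 1 ≤ q := by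
      rcases Nat.eq_zero_or_pos q with h0 | h0
      · rw [h0] at hq; norm_num at hq
      · exact h0
    have hm : q % 9 = 8 := by omega
    have h1 := sq9 hq1 (Or.inr hm)
    have h2 : 27 ∣ q ^ 3 + 1 := by
      have : q % 27 = 8 ∨ q % 27 = 17 ∨ q % 27 = 26 := by omega
      apply Nat.dvd_of_mod_eq_zero
      rw [Nat.add_mod, Nat.pow_mod]
      rcases this with h | h | h <;> rw [h]
    have h3 : 3 * 3 ^ 4 ∣ 3 * Nat.card (PSU 3 F q) := by
      rw [hc]
      apply Dvd.dvd.mul_left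
      calc 3 * 3 ^ 4 ∣ 9 * 27 := by norm_num
        _ ∣ _ := mul_dvd_mul h1 h2
    exact h81' (Nat.dvd_of_mul_dvd_mul_left (by norm_num) h3)
  · -- `U_3(q)`, `27 ∣ q - 1`
    have hq2 : IsPrimePow (q ^ 2) := hF ▸ Fintype.isPrimePow_card_of_field
    have hqp : IsPrimePow q := (isPrimePow_pow_iff (by norm_num)).1 hq2
    obtain ⟨p, k, hp, hk, hpk⟩ := (isPrimePow_nat_iff q).1 hqp
    haveI : Fact p.Prime := ⟨hp⟩
    let _ : Fintype (GaloisField p k) := Fintype.ofFinite _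
    have hK : Fintype.card (GaloisField p k) = q := by
      rw [← Nat.card_eq_fintype_card, GaloisField.card p k (by omega), hpk]
    exact absurd ((CommSyl.PSUthree hF hK (by norm_num) ((by norm_num : 3 ∣ 27).trans hq)).congr e.symm) hnc
  · exact .psu3 F i1 i2 hF e
  · -- `U_4(q)`, `q ≡ 2 mod 3`
    exfalso
    rw [Nat.card_congr e.toEquiv] at h81'
    have hc := card_psu (F := F) hF (n := 4) (by norm_num)
    have hq3 : ¬ 3 ∣ q := by omega
    refine h81' (dvd_of_mul not_dvd_gcd_four hc (Dvd.dvd.mul_left ?_ _))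
    rw [show 4 - 1 = 3 by rfl, Finset.prod_range_succ, Finset.prod_range_succ, Finset.prod_range_succ,
      Finset.prod_range_zero, one_mul, if_pos (by decide), if_neg (by decide), if_pos (by decide)]
    calc 3 ^ 4 ∣ 3 * 9 * 3 := by norm_num
      _ ∣ _ := mul_dvd_mul (mul_dvd_mul (three_sq hq3) (nine_cube' hq)) (three_four hq3)
  · -- `U_4(q)`, `U_5(q)`, `9 ∣ q - 1`
    exfalso
    rw [Nat.card_congr e.toEquiv] at h81'
    have hc := card_psu (F := F) hF (n := n) (by omega)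
    have hF1 : 1 < Fintype.card F := Fintype.one_lt_card
    have hq1 : 1 ≤ q := by
      rcases Nat.eq_zero_or_pos q with h0 | h0
      · rw [hF, h0] at hF1; norm_num at hF1
      · exact h0
    have hg : ¬ 3 ∣ Nat.gcd n (q + 1) := fun h' => by
      have := h'.trans (Nat.gcd_dvd_right _ _)
      omega
    refine h81' (dvd_of_mul hg hc (Dvd.dvd.mul_left (dvd_trans ?_ (Finset.prod_dvd_prod_of_subset _ _ _
      (Finset.range_subset_range.2 (show 3 ≤ n - 1 by omega)))) _))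
    have h1 := sq9 (q := q) (by omega) (Or.inl (by omega))
    have h2 := four9 (by omega) h1
    rw [Finset.prod_range_succ, Finset.prod_range_succ, Finset.prod_range_succ, Finset.prod_range_zero, one_mul,
      if_pos (by decide), if_neg (by decide), if_pos (by decide)]
    calc 3 ^ 4 ∣ 9 * 1 * 9 := by norm_num
      _ ∣ _ := mul_dvd_mul (mul_dvd_mul h1 (one_dvd _)) h2
  · -- `U_6(q)`, `U_7(q)`
    exfalso
    rw [Nat.card_congr e.toEquiv] at h81'
    have hc := card_psu (F := F) hF (n := n) (by omega)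
    have hg : ¬ 3 ∣ Nat.gcd n (q + 1) := fun h' => by
      have := h'.trans (Nat.gcd_dvd_right _ _)
      omega
    have hq3 : ¬ 3 ∣ q := by omega
    refine h81' (dvd_of_mul hg hc (Dvd.dvd.mul_left (dvd_trans ?_ (Finset.prod_dvd_prod_of_subset _ _ _
      (Finset.range_subset_range.2 (show 5 ≤ n - 1 by omega)))) _))
    rw [Finset.prod_range_succ, Finset.prod_range_succ, Finset.prod_range_succ, Finset.prod_range_succ,
      Finset.prod_range_succ, Finset.prod_range_zero, one_mul, if_pos (by decide), if_neg (by decide),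
      if_pos (by decide), if_neg (by decide), if_pos (by decide)]
    calc 3 ^ 4 ∣ 3 * 1 * 3 * 1 * 9 := by norm_num
      _ ∣ _ := mul_dvd_mul (mul_dvd_mul (mul_dvd_mul (mul_dvd_mul (three_sq hq3) (one_dvd _)) (three_four hq3))
        (one_dvd _)) (nine_six hq3)
  · -- `Sp_4(3)`
    exfalso
    rw [Nat.card_congr e.toEquiv] at h81'
    have hc := card_psp (F := F) (m := 2) (by norm_num)
    rw [hq] at hc
    exact h81' (dvd_of_mul not_dvd_gcd_two hc (Dvd.dvd.mul_right (by norm_num) _))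
  · -- `Sp_4(q)`
    exfalso
    rw [Nat.card_congr e.toEquiv] at h81'
    have hc := card_psp (F := F) (m := 2) (by norm_num)
    have hq1 : 1 < Fintype.card F := Fintype.one_lt_card
    refine h81' (dvd_of_mul not_dvd_gcd_two hc (Dvd.dvd.mul_left ?_ _))
    rw [Finset.prod_range_succ, Finset.prod_range_succ, Finset.prod_range_zero, one_mul]
    calc 3 ^ 4 ∣ 9 * 9 := by norm_num
      _ ∣ _ := mul_dvd_mul hq (four9 (by omega) hq)
  · -- `Sp_6(q)`
    exfalso
    rw [Nat.card_congr e.toEquiv] at h81'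
    have hc := card_psp (F := F) (m := 3) (by norm_num)
    exact h81' (dvd_of_mul not_dvd_gcd_two hc (Dvd.dvd.mul_left (prod3 hq le_rfl) _))
  · -- `Ω_7(q)`
    exfalso
    rw [Nat.card_congr e.toEquiv] at h81'
    exact h81' (dvd_of_mul (by norm_num) (S0292.result (F := F) rfl ho 3 le_rfl) (Dvd.dvd.mul_left (prod3 hq le_rfl) _))
  · -- `Ω⁻_8(q)`
    exfalso
    rw [Nat.card_congr e.toEquiv] at h81'
    exact h81' (dvd_of_mul not_dvd_gcd_four (S0294.result (F := F) rfl 4 le_rfl a b hab)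
      (Dvd.dvd.mul_left (prod3 hq le_rfl) _))
  · exact .g2 F i1 i2 h3 hq h9 e
  · -- `³D_4(q)`
    exfalso
    rw [Nat.card_congr e.toEquiv, T.td4 F q hq hF] at h81'
    apply h81'
    have h8 : 3 ∣ q ^ 8 + q ^ 4 + 1 := by
      have h2 : q % 3 = 1 ∨ q % 3 = 2 := by omega
      apply Nat.dvd_of_mod_eq_zero
      rw [Nat.add_mod, Nat.add_mod (q ^ 8), Nat.pow_mod, Nat.pow_mod q 4]
      rcases h2 with h2 | h2 <;> rw [h2]
    calc 3 ^ 4 ∣ 1 * 3 * 9 * 3 := by norm_num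
      _ ∣ _ := mul_dvd_mul (mul_dvd_mul (mul_dvd_mul (one_dvd _) (three_sq h3)) (nine_six h3)) h8
  · exact .tf4 F i1 i2 m hm hF h9 e
  · exact .tits h
  · exact .m12 h
  · exact .m24 h
  · exact .j2 h
  · exact .j4 h
  · exact .he h
  · exact .ru h
  · -- O'Nan
    exfalso
    apply h81'
    rw [T.spor S (.on, 460815505920) (by decide) h]
    norm_num

/-- **Known simple groups with nonabelian Sylow `3`-subgroups of order 27 and exponent 3.** -/
theorem list27 (T : Cfsg.Agent.OrdDiv.OrderTable.{u}) {S : Type u} [Group S] [Finite S] (h : IsKnownSimple' S)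
    (h27 : 27 ∣ Nat.card S) (h81 : ¬ 81 ∣ Nat.card S) (P : Subgroup S) (hP : Nat.card P = 27)
    (_hexp : ∀ x ∈ P, x ^ 3 = 1) (hnc : ¬ ∀ x ∈ P, ∀ y ∈ P, x * y = y * x) : Kind27 S :=
  list27' T h h27 h81 fun hc => hnc (hc P (IsPGroup.of_card (n := 3) (by rw [hP]; norm_num)))

end Cfsg.Agent.H496
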