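import Cfsg.Agent.H130.GLn
import Cfsg.Agent.H322.Cent.Blocks
import Cfsg.Agent.LieClassical.SLTwoUnipotent
import Cfsg.Agent.S0243
import Cfsg.Agent.S0278
import Cfsg.Agent.S0281

/-!
# Groups with commutative `r`-subgroups (helper496)

`CommSyl r G` : every `r`-subgroup of `G` is commutative. Transfer along surjections, along injections with index prime
to `r`; subgroups of `GL_n(q)`, `n < r * ord_r(q)`; `PSL_2(q)`, `PSU_3(q)` with `r ∣ q - 1`, `r ≠ 2`.
-/

set_option autoImplicit false

namespace Cfsg.Agent.H496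

open Cfsg Matrix Cfsg.Agent.H322.Cent

universe u v w

/-- every `r`-subgroup is commutative -/
def CommSyl (r : ℕ) (G : Type u) [Group G] : Prop :=
  ∀ P : Subgroup G, IsPGroup r P → ∀ x ∈ P, ∀ y ∈ P, x * y = y * x

variable {r : ℕ} [hr : Fact r.Prime] {G : Type u} [Group G] [Finite G] {H : Type v} [Group H] [Finite H]

theorem CommSyl.of_sylow (Q : Sylow r G) (hQ : ∀ x ∈ Q, ∀ y ∈ Q, x * y = y * x) : CommSyl r G := by
  intro P hP x hx y hy
  obtain ⟨R, hR⟩ := hP.exists_le_sylow
  obtain ⟨g, hg⟩ := MulAction.exists_smul_eq G R Q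
  have key : ∀ z ∈ P, g * z * g⁻¹ ∈ Q := by
    intro z hz
    rw [← hg]
    exact Subgroup.smul_mem_pointwise_smul z (MulAut.conj g) (R : Subgroup G) (hR hz)
  have h1 := hQ _ (key x hx) _ (key y hy)
  have h2 : g * (x * y) * g⁻¹ = g * (y * x) * g⁻¹ := by
    calc g * (x * y) * g⁻¹ = g * x * g⁻¹ * (g * y * g⁻¹) := by group
      _ = g * y * g⁻¹ * (g * x * g⁻¹) := h1
      _ = g * (y * x) * g⁻¹ := by group
  exact mul_left_cancel (mul_right_cancel h2)

theorem CommSyl.of_surj (φ : H →* G) (hφ : Function.Surjective φ) (h : CommSyl r H) : CommSyl r G := by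
  obtain ⟨Q⟩ : Nonempty (Sylow r H) := inferInstance
  refine CommSyl.of_sylow (Q.mapSurjective hφ) ?_
  intro x hx y hy
  have hx1 : x ∈ ((Q.mapSurjective hφ : Sylow r G) : Subgroup G) := hx
  have hy1 : y ∈ ((Q.mapSurjective hφ : Sylow r G) : Subgroup G) := hy
  rw [Sylow.coe_mapSurjective] at hx1 hy1
  obtain ⟨a, ha, rfl⟩ := hx1
  obtain ⟨b, hb, rfl⟩ := hy1
  rw [← map_mul, ← map_mul, h Q Q.isPGroup' a ha b hb]

theorem CommSyl.congr (e : H ≃* G) (h : CommSyl r H) : CommSyl r G :=
  h.of_surj e.toMonoidHom e.surjective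

/-- an injective homomorphism to a group with the same `r`-part of the order -/
theorem CommSyl.of_inj (f : H →* G) (hf : Function.Injective f)
    (hc : (Nat.card H).factorization r = (Nat.card G).factorization r) (h : CommSyl r H) : CommSyl r G := by
  obtain ⟨Q⟩ : Nonempty (Sylow r H) := inferInstance
  have h1 : Nat.card ((Q : Subgroup H).map f) = r ^ (Nat.card G).factorization r := by
    rw [← hc, ← Q.card_eq_multiplicity]
    exact Nat.card_congr ((Q : Subgroup H).equivMapOfInjective f hf).symm.toEquiv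
  refine CommSyl.of_sylow (Sylow.ofCard ((Q : Subgroup H).map f) h1) ?_
  intro x hx y hy
  have hx1 : x ∈ (Q : Subgroup H).map f := hx
  have hy1 : y ∈ (Q : Subgroup H).map f := hy
  obtain ⟨a, ha, rfl⟩ := hx1
  obtain ⟨b, hb, rfl⟩ := hy1
  rw [← map_mul, ← map_mul, h Q Q.isPGroup' a ha b hb]

/-- subgroups of `GL_n(q)` -/
theorem CommSyl.of_GL {F : Type w} [Field F] [Fintype F] {q n : ℕ} (hq : Fintype.card F = q) (hrq : ¬ r ∣ q)
    (hn : n < r * orderOf (q : ZMod r)) (i : H →* Matrix.GeneralLinearGroup (Fin n) F) (hi : Function.Injective i) :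
    CommSyl r H := by
  classical
  intro P hP x hx y hy
  have hQ : IsPGroup r (P.map i) := hP.map i
  obtain ⟨S, hS⟩ := hQ.exists_le_sylow
  obtain ⟨e⟩ := H130.GLn.sylow_GL hq hrq n (fun j hj hd h7j => by
    have h1 := (H130.Homo.coprime_orderOf hrq).mul_dvd_of_dvd_of_dvd h7j hd
    have h2 := Finset.mem_Ioc.1 hj
    have h3 := Nat.le_of_dvd h2.1 h1
    omega) S
  have hx' : i x ∈ S := hS ⟨x, hx, rfl⟩
  have hy' : i y ∈ S := hS ⟨y, hy, rfl⟩
  have h1 : (⟨i x, hx'⟩ : S) * ⟨i y, hy'⟩ = ⟨i y, hy'⟩ * ⟨i x, hx'⟩ := by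
    apply e.injective
    rw [map_mul, map_mul, mul_comm]
  have h2 := congrArg Subtype.val h1
  apply hi
  rw [map_mul, map_mul]
  exact h2

/-- `SL_n(q)` -/
theorem CommSyl.SL {F : Type w} [Field F] [Fintype F] {q n : ℕ} (hq : Fintype.card F = q) (hrq : ¬ r ∣ q)
    (hn : n < r * orderOf (q : ZMod r)) : CommSyl r (SpecialLinearGroup (Fin n) F) := by
  classical
  exact CommSyl.of_GL hq hrq hn (SpecialLinearGroup.toGL : SpecialLinearGroup (Fin n) F →* _)
    SpecialLinearGroup.toGL_injective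

/-- `PSL_n(q)` -/
theorem CommSyl.PSL {F : Type w} [Field F] [Fintype F] {q n : ℕ} (hq : Fintype.card F = q) (hrq : ¬ r ∣ q)
    (hn : n < r * orderOf (q : ZMod r)) : CommSyl r (ProjectiveSpecialLinearGroup (Fin n) F) := by
  classical
  exact (CommSyl.SL hq hrq hn).of_surj (QuotientGroup.mk' _) (QuotientGroup.mk'_surjective _)

/-- unipotent elements of `PSL_2(F)` -/
def unip (F : Type w) [Field F] : Multiplicative F →* ProjectiveSpecialLinearGroup (Fin 2) F :=
  (QuotientGroup.mk' _).comp (MonoidHom.mk' (fun x : Multiplicative F => LieClassical.SLTwoUnipotent.u x.toAdd)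
    (fun a b => LieClassical.SLTwoUnipotent.u_add a.toAdd b.toAdd))

theorem unip_injective (F : Type w) [Field F] : Function.Injective (unip F) := by
  rw [injective_iff_map_eq_one]
  intro a ha
  have h1 : LieClassical.SLTwoUnipotent.u a.toAdd ∈ Subgroup.center (SpecialLinearGroup (Fin 2) F) :=
    (QuotientGroup.eq_one_iff _).1 ha
  obtain ⟨c, hc⟩ := scalar_of_center h1
  have h2 := congrFun (congrFun hc 0) 1
  have h3 : a.toAdd = (0 : F) := by
    rw [diagonal_apply_ne _ (by decide)] at h2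
    exact h2
  exact h3

theorem not_dvd_sub_one {q k : ℕ} (hrq : r ∣ q) (hq : 1 ≤ q) (hk : k ≠ 0) : ¬ r ∣ q ^ k - 1 := by
  intro h
  have h1 : r ∣ q ^ k := dvd_pow hrq hk
  have h2 : 1 ≤ q ^ k := Nat.one_le_pow _ _ hq
  have h3 : r ∣ 1 := by
    have h4 := (Nat.dvd_sub h1 h)
    rwa [Nat.sub_sub_self h2] at h4
  exact hr.out.one_lt.ne' (Nat.dvd_one.1 h3)

/-- **`PSL_2(q)` has commutative `r`-subgroups, `r` odd.** -/
theorem CommSyl.PSLtwo (F : Type w) [Field F] [Fintype F] (hr2 : r ≠ 2) :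
    CommSyl r (ProjectiveSpecialLinearGroup (Fin 2) F) := by
  classical
  have hr1 := hr.out.two_le
  by_cases hrq : r ∣ Fintype.card F
  · refine CommSyl.of_inj (unip F) (unip_injective F) ?_ (fun P _ x _ y _ => mul_comm x y)
    have hq1 : 1 < Fintype.card F := Fintype.one_lt_card
    have h1 := S0243.result (F := F) rfl 2 le_rfl
    rw [Nat.card_congr Multiplicative.toAdd, Nat.card_eq_fintype_card]
    rw [Fin.prod_univ_two] at h1
    simp only [Fin.val_zero, pow_zero, Fin.val_one, pow_one] at h1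
    have h2 : Fintype.card F ^ 2 - Fintype.card F = Fintype.card F * (Fintype.card F - 1) := by
      rw [Nat.mul_sub, mul_one, sq]
    rw [h2] at h1
    have hs2 : ¬ r ∣ Fintype.card F ^ 2 - 1 := not_dvd_sub_one hrq (by omega) (by norm_num)
    have hs1 : ¬ r ∣ Fintype.card F - 1 := by
      have := not_dvd_sub_one hrq (by omega) (k := 1) (by norm_num)
      rwa [pow_one] at this
    have hg : ¬ r ∣ Nat.gcd 2 (Fintype.card F - 1) := fun h => hs1 (h.trans (Nat.gcd_dvd_right _ _))
    have h3 := congrArg (fun n => Nat.factorization n r) h1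
    have ng : Nat.gcd 2 (Fintype.card F - 1) ≠ 0 := fun h => hg (h ▸ dvd_zero r)
    have n1 : Fintype.card F - 1 ≠ 0 := fun h => hs1 (h ▸ dvd_zero r)
    have n2 : Fintype.card F ^ 2 - 1 ≠ 0 := fun h => hs2 (h ▸ dvd_zero r)
    rw [Nat.factorization_mul ng (Nat.mul_ne_zero n1 Nat.card_pos.ne'), Nat.factorization_mul n1 Nat.card_pos.ne',
      Nat.factorization_mul n2 (Nat.mul_ne_zero (by omega) n1), Nat.factorization_mul (by omega) n1,
      Finsupp.add_apply, Finsupp.add_apply, Finsupp.add_apply, Finsupp.add_apply,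
      Nat.factorization_eq_zero_of_not_dvd hg, Nat.factorization_eq_zero_of_not_dvd hs1,
      Nat.factorization_eq_zero_of_not_dvd hs2, zero_add, zero_add, zero_add, add_zero] at h3
    exact h3.symm
  · refine CommSyl.PSL rfl hrq ?_
    have h0 : 0 < orderOf (Fintype.card F : ZMod r) := H130.Homo.orderOf_pos_zmod hrq
    have : 3 ≤ r := by omega
    nlinarith

/-- **`PSU_3(q)` has commutative `r`-subgroups if `r` is odd and divides `q - 1`.** -/
theorem CommSyl.PSUthree {F : Type w} [Field F] [Fintype F] {q : ℕ} (hF : Fintype.card F = q ^ 2) {K : Type w}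
    [Field K] [Fintype K] (hK : Fintype.card K = q) (hr2 : r ≠ 2) (hrq : r ∣ q - 1) : CommSyl r (PSU 3 F q) := by
  classical
  have hr1 := hr.out.two_le
  have hq1 : 1 < q := hK ▸ Fintype.one_lt_card
  have hrq' : ¬ r ∣ q := by
    intro h
    have := not_dvd_sub_one h (by omega) (k := 1) (by norm_num)
    rw [pow_one] at this
    exact this hrq
  have hnd : ∀ k, ¬ r ∣ q ^ k + 1 := by
    intro k h
    have h1 : q ^ k ≡ 1 [MOD r] := by
      have h2 : q ≡ 1 [MOD r] := ((Nat.modEq_iff_dvd' (by omega)).2 hrq).symm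
      have := h2.pow k
      rwa [one_pow] at this
    have h2 : q ^ k + 1 ≡ 2 [MOD r] := h1.add_right 1
    have h3 : r ∣ 2 := (Nat.ModEq.dvd_iff h2 dvd_rfl).1 h
    exact hr2 ((Nat.prime_dvd_prime_iff_eq hr.out Nat.prime_two).1 h3)
  have h2 : CommSyl r (SU 2 F q) := by
    obtain ⟨e⟩ := S0281.result (F := F) (K := K) hF hK
    refine (CommSyl.SL hK hrq' ?_).congr e.symm
    have h0 : 0 < orderOf (q : ZMod r) := H130.Homo.orderOf_pos_zmod hrq'
    have : 3 ≤ r := by omega
    nlinarith
  have h3 : CommSyl r (SU (2 + 1) F q) := by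
    refine CommSyl.of_inj ((bdU (F := F) (k := 2) (l := 1) (q := q)).comp (MonoidHom.inl _ _)) ?_ ?_ h2
    · intro A B hAB
      have h4 : bdm A.1.1 (1 : SU 1 F q).1.1 = bdm B.1.1 (1 : SU 1 F q).1.1 := congrArg (fun x => x.1.1) hAB
      unfold bdm at h4
      have h5 := (Matrix.reindex (finSumFinEquiv (m := 2) (n := 1)) (finSumFinEquiv (m := 2) (n := 1))).injective h4
      exact Subtype.ext (Subtype.ext (Matrix.fromBlocks_inj.1 h5).1)
    · have h4 := S0278.result hF 2 (by norm_num)
      have h5 := S0278.result hF 3 (by norm_num)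
      have h6 := congrArg (fun n => Nat.factorization n r) h4
      have h7 := congrArg (fun n => Nat.factorization n r) h5
      have nn : q + 1 ≠ 0 := by omega
      have nq : ∀ k, q ^ k ≠ 0 := fun k => pow_ne_zero _ (by omega)
      have n2 : q ^ 2 - 1 ≠ 0 := by
        have := Nat.one_lt_pow (n := 2) (by norm_num) hq1
        omega
      have hqk : ∀ k, (q ^ k).factorization r = 0 := fun k =>
        Nat.factorization_eq_zero_of_not_dvd (fun h => hrq' (hr.out.dvd_of_dvd_pow h))
      have hqk' : ∀ k, (q ^ k + 1).factorization r = 0 := fun k => Nat.factorization_eq_zero_of_not_dvd (hnd k)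
      have e2 : ∏ i ∈ Finset.range 2, (if Even i then q ^ (i + 1) + 1 else q ^ (i + 1) - 1) =
          (q ^ 1 + 1) * (q ^ 2 - 1) := by
        rw [Finset.prod_range_succ, Finset.prod_range_succ, Finset.prod_range_zero, one_mul, if_pos (by decide),
          if_neg (by decide)]
      have e3 : ∏ i ∈ Finset.range 3, (if Even i then q ^ (i + 1) + 1 else q ^ (i + 1) - 1) =
          (q ^ 1 + 1) * (q ^ 2 - 1) * (q ^ 3 + 1) := by
        rw [Finset.prod_range_succ, e2, if_pos (by decide)]
      rw [e2, Nat.factorization_mul nn Nat.card_pos.ne', Nat.factorization_mul (nq _) (Nat.mul_ne_zero (by omega) n2),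
        Nat.factorization_mul (by omega) n2, Finsupp.add_apply, Finsupp.add_apply, Finsupp.add_apply, hqk, hqk'] at h6
      rw [e3, Nat.factorization_mul nn Nat.card_pos.ne', Nat.factorization_mul (nq _)
        (Nat.mul_ne_zero (Nat.mul_ne_zero (by omega) n2) (by omega)),
        Nat.factorization_mul (Nat.mul_ne_zero (by omega) n2) (by omega), Nat.factorization_mul (by omega) n2,
        Finsupp.add_apply, Finsupp.add_apply, Finsupp.add_apply, Finsupp.add_apply, hqk, hqk', hqk'] at h7
      change _ = (Nat.card (SU 3 F q)).factorization r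
      omega
  exact h3.of_surj (QuotientGroup.mk' _) (QuotientGroup.mk'_surjective _)

end Cfsg.Agent.H496
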