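import Mathlib
import Cfsg.Agent.S0144
import Cfsg.Agent.S0041
import Cfsg.Agent.S0039
import Cfsg.Agent.S0126
import Cfsg.Agent.Solvable.HallAux
import Cfsg.Agent.H496.ThreeSizes

/-!
# `{r, t}`-groups of exponent dividing `r * t` without elements of order `r * t`

They are Frobenius groups with complement of prime order (`r`, `t` odd primes).
-/

set_option autoImplicit false

namespace Cfsg.Agent.H496.FrobExp

universe u

/-- The norm argument. -/
theorem norm_arg {G V : Type*} [Group G] [CommGroup V] (φ : G →* MulAut V) (T : Subgroup G)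
    [Fintype T] (hab : ∀ a ∈ T, ∀ b ∈ T, a * b = b * a) (x : G)
    (hxT : ∀ n ∈ T, x⁻¹ * n * x ∈ T) (r : ℕ) (hr : 0 < r)
    (hT : ∀ v : V, (∀ n ∈ T, φ n v = v) → v = 1)
    (hx : ∀ v : V, ∏ j ∈ Finset.range r, φ (x ^ j) v = 1)
    (hfree : ∀ j, 0 < j → j < r → ∀ n ∈ T, n * x ^ j = x ^ j * n → n = 1) (v : V) :
    v ^ Nat.card T = 1 := by
  classical
  have hxT' : ∀ j : ℕ, ∀ n ∈ T, (x ^ j)⁻¹ * n * x ^ j ∈ T := by
    intro j
    induction j with
    | zero => intro n hn; simpa using hn
    | succ j ih =>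
      intro n hn
      have h := ih _ (hxT n hn)
      have h1 : (x ^ (j + 1))⁻¹ * n * x ^ (j + 1) = (x ^ j)⁻¹ * (x⁻¹ * n * x) * x ^ j := by
        rw [pow_succ']
        group
      rwa [h1]
  have hTprod : ∀ u : V, ∏ n : T, φ (n : G) u = 1 := by
    intro u
    apply hT
    intro m hm
    rw [map_prod]
    refine Fintype.prod_equiv (Equiv.mulLeft (⟨m, hm⟩ : T)) _ _ ?_
    intro n
    simp only [Equiv.coe_mulLeft, Subgroup.coe_mul, map_mul, MulAut.mul_apply]
  have h1 : ∏ n : T, ∏ j ∈ Finset.range r, φ ((n : G) * x ^ j * (n : G)⁻¹) v = 1 := by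
    apply Finset.prod_eq_one
    intro n _
    have h2 : ∀ j ∈ Finset.range r, φ ((n : G) * x ^ j * (n : G)⁻¹) v =
        φ (n : G) (φ (x ^ j) (φ (n : G)⁻¹ v)) := by
      intro j _
      simp only [map_mul, MulAut.mul_apply]
    rw [Finset.prod_congr rfl h2, ← map_prod, hx, map_one]
  rw [Finset.prod_comm, ← Finset.prod_erase_mul _ _ (Finset.mem_range.mpr hr)] at h1
  have h3 : ∏ j ∈ (Finset.range r).erase 0, ∏ n : T, φ ((n : G) * x ^ j * (n : G)⁻¹) v = 1 := by
    apply Finset.prod_eq_one
    intro j hj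
    rw [Finset.mem_erase, Finset.mem_range] at hj
    let τ : T → T := fun n => ⟨(x ^ j)⁻¹ * n * x ^ j * (n : G)⁻¹, T.mul_mem (hxT' j n n.2) (T.inv_mem n.2)⟩
    have hτ : Function.Injective τ := by
      intro n m hnm
      have h4 : (x ^ j)⁻¹ * n * x ^ j * (n : G)⁻¹ = (x ^ j)⁻¹ * m * x ^ j * (m : G)⁻¹ :=
        congrArg Subtype.val hnm
      have h5 : (m : G)⁻¹ * n ∈ T := T.mul_mem (T.inv_mem m.2) n.2
      have h6 : (m : G)⁻¹ * n = 1 := by
        apply hfree j (Nat.pos_of_ne_zero hj.1) hj.2 _ h5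
        have h7 := hab _ (hxT' j n n.2) _ (T.inv_mem n.2)
        have h8 : (m : G)⁻¹ * ((x ^ j)⁻¹ * n * x ^ j) = (x ^ j)⁻¹ * n * x ^ j * (m : G)⁻¹ :=
          hab _ (T.inv_mem m.2) _ (hxT' j n n.2)
        have h9 : (x ^ j)⁻¹ * ((m : G)⁻¹ * n) * x ^ j = (m : G)⁻¹ * n := by
          have e1 : (x ^ j)⁻¹ * ((m : G)⁻¹ * n) * x ^ j =
              ((x ^ j)⁻¹ * m * x ^ j)⁻¹ * ((x ^ j)⁻¹ * n * x ^ j) := by group
          have e2 : (x ^ j)⁻¹ * n * x ^ j = (x ^ j)⁻¹ * m * x ^ j * (m : G)⁻¹ * n := by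
            rw [← h4]
            group
          rw [e1, e2]
          group
        calc (m : G)⁻¹ * n * x ^ j = x ^ j * ((x ^ j)⁻¹ * ((m : G)⁻¹ * n) * x ^ j) := by group
          _ = x ^ j * ((m : G)⁻¹ * n) := by rw [h9]
      exact Subtype.ext (inv_mul_eq_one.mp h6).symm
    have hbij : Function.Bijective τ := Finite.injective_iff_bijective.mp hτ
    have h4 : ∀ n : T, φ ((n : G) * x ^ j * (n : G)⁻¹) v = φ (x ^ j) (φ (τ n : G) v) := by
      intro n
      rw [← MulAut.mul_apply, ← map_mul]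
      congr 2
      show (n : G) * x ^ j * (n : G)⁻¹ = x ^ j * ((x ^ j)⁻¹ * n * x ^ j * (n : G)⁻¹)
      group
    rw [Finset.prod_congr rfl (fun n _ => h4 n), ← map_prod,
      hbij.prod_comp (fun n : T => φ (n : G) v), hTprod, map_one]
  rw [h3, one_mul] at h1
  simp only [pow_zero, mul_one, mul_inv_cancel, map_one, MulAut.one_apply, Finset.prod_const,
    Finset.card_univ] at h1
  rw [Nat.card_eq_fintype_card]
  exact h1

/-- Elements of an `{r, t}`-group without elements of orders `r t`, `r ^ 2`, `t ^ 2`. -/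
theorem orderOf_cases {G : Type u} [Group G] [Finite G] {r t : ℕ} (hr : r.Prime) (ht : t.Prime)
    (hrt : r ≠ t) (hG : ∀ p : ℕ, p.Prime → p ∣ Nat.card G → p = r ∨ p = t)
    (hno : ∀ g : G, orderOf g ≠ r * t) (hnor : ∀ g : G, orderOf g ≠ r ^ 2)
    (hnot : ∀ g : G, orderOf g ≠ t ^ 2) (g : G) (hg : g ≠ 1) : orderOf g = r ∨ orderOf g = t := by
  have hcop : Nat.Coprime r t := (Nat.coprime_primes hr ht).mpr hrt
  have hg1 : orderOf g ≠ 1 := by rwa [Ne, orderOf_eq_one_iff]
  have hmin := Nat.minFac_prime hg1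
  have hpow : ∀ p : ℕ, p.Prime → (∀ g : G, orderOf g ≠ p ^ 2) →
      (∀ q : ℕ, q.Prime → q ∣ orderOf g → q = p) → orderOf g = p := by
    intro p hp hnp hq
    have h1 : orderOf g = p ^ (orderOf g).primeFactorsList.length :=
      Nat.eq_prime_pow_of_unique_prime_dvd (orderOf_pos g).ne' (fun {d} hd hd' => hq d hd hd')
    set k := (orderOf g).primeFactorsList.length with hk
    rcases Nat.lt_or_ge k 2 with h2 | h2
    · interval_cases k
      · rw [h1, pow_zero] at hg1
        exact absurd rfl hg1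
      · rw [h1, pow_one]
    · exfalso
      apply hnp (g ^ p ^ (k - 2))
      rw [orderOf_pow_of_dvd (pow_pos hp.pos _).ne' (by rw [h1]; exact pow_dvd_pow p (by omega)),
        h1, Nat.pow_div (by omega) hp.pos]
      congr 1
      omega
  by_cases h1 : r ∣ orderOf g
  · by_cases h2 : t ∣ orderOf g
    · exfalso
      obtain ⟨k, hk⟩ := Cfsg.Agent.H496.ThreePrimes.exists_orderOf_eq_mul g
        (hcop.mul_dvd_of_dvd_of_dvd h1 h2)
      exact hno _ hk
    · left
      apply hpow r hr hnor
      intro q hq hqg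
      rcases hG q hq (hqg.trans (orderOf_dvd_natCard g)) with h | h
      · exact h
      · rw [h] at hqg
        exact absurd hqg h2
  · right
    apply hpow t ht hnot
    intro q hq hqg
    rcases hG q hq (hqg.trans (orderOf_dvd_natCard g)) with h | h
    · rw [h] at hqg
      exact absurd hqg h1
    · exact h

theorem exists_complement {G : Type u} [Group G] [Finite G] {r t : ℕ} (hr : r.Prime) (ht : t.Prime)
    (hrt : r ≠ t) (ht2 : t ≠ 2)
    (hG : ∀ p : ℕ, p.Prime → p ∣ Nat.card G → p = r ∨ p = t) (htG : t ∣ Nat.card G)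
    (hno : ∀ g : G, orderOf g ≠ r * t) (hnor : ∀ g : G, orderOf g ≠ r ^ 2)
    (hnot : ∀ g : G, orderOf g ≠ t ^ 2)
    (V : Subgroup G) (hVn : V.Normal) (hV : V ≠ ⊥) (hVab : IsMulCommutative V)
    (hVr : ∀ v ∈ V, v ^ r = 1) :
    ∃ C : Subgroup G, Cfsg.IsFrobeniusComplement C ∧ (Nat.card C).Prime := by
  classical
  have : Fact t.Prime := ⟨ht⟩
  have : Fact r.Prime := ⟨hr⟩
  have hcop : Nat.Coprime r t := (Nat.coprime_primes hr ht).mpr hrt
  have hcases := orderOf_cases hr ht hrt hG hno hnor hnot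
  have hVo : ∀ v ∈ V, v ≠ 1 → orderOf v = r := fun v hv hv1 => orderOf_eq_prime (hVr v hv) hv1
  -- elements of orders `r`, `t` do not commute
  have hnc : ∀ x y : G, orderOf x = t → orderOf y = r → ¬ Commute x y := by
    intro x y hx hy h
    apply hno (y * x)
    rw [h.symm.orderOf_mul_eq_mul_orderOf_of_coprime, hx, hy]
    rw [hx, hy]
    exact hcop
  obtain ⟨T⟩ : Nonempty (Sylow t G) := inferInstance
  have hTo : ∀ x ∈ (T : Subgroup G), x ≠ 1 → orderOf x = t := by
    intro x hx hx1
    rcases hcases x hx1 with h | h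
    · exfalso
      obtain ⟨k, hk⟩ := IsPGroup.iff_orderOf.mp T.isPGroup' ⟨x, hx⟩
      rw [Subgroup.orderOf_mk, h] at hk
      have h1 : r ∣ t := hr.dvd_of_dvd_pow (by rw [← hk])
      exact hrt ((Nat.prime_dvd_prime_iff_eq hr ht).mp h1)
    · exact h
  have hfpf : ∀ a ∈ (T : Subgroup G), a ≠ 1 → V ⊓ Subgroup.centralizer {a} = ⊥ := by
    intro a ha ha1
    rw [eq_bot_iff]
    intro v hv
    obtain ⟨hv1, hv2⟩ := Subgroup.mem_inf.mp hv
    rw [Subgroup.mem_centralizer_singleton_iff] at hv2
    by_contra hne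
    exact hnc a v (hTo a ha ha1) (hVo v hv1 hne) hv2.symm
  have hTV : ∀ K : Subgroup G, K ≤ Subgroup.normalizer (V : Set G) := by
    intro K c _
    rw [Subgroup.mem_normalizer_iff]
    intro k
    exact ⟨fun hk => hVn.conj_mem k hk c, fun hk => by
      have := hVn.conj_mem _ hk c⁻¹
      have h1 : c⁻¹ * (c * k * c⁻¹) * c⁻¹⁻¹ = k := by group
      rwa [h1] at this⟩
  have hTne : (T : Subgroup G) ≠ ⊥ := by
    intro h
    have h1 := T.card_eq_multiplicity
    rw [h, Subgroup.card_bot] at h1
    have h2 : 0 < (Nat.card G).factorization t :=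
      ht.factorization_pos_of_dvd Nat.card_pos.ne' htG
    have := Nat.one_lt_pow h2.ne' ht.one_lt
    omega
  -- `T` is cyclic
  have hTcyc : IsCyclic (T : Subgroup G) := by
    by_contra hncyc
    obtain ⟨A, -, ⟨hA1, hA2⟩, hA3⟩ := Cfsg.Agent.S0126.result ht2 T.isPGroup' hncyc
    have hA4 : Nat.card (A.map (T : Subgroup G).subtype) = t * t := by
      rw [Subgroup.card_map_of_injective (T : Subgroup G).subtype_injective, hA3, pow_two]
    have hcyc : IsCyclic (A.map (T : Subgroup G).subtype) := by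
      refine Cfsg.Agent.S0041.result (A.map (T : Subgroup G).subtype) V hV (hTV _) ?_
        (Or.inr ⟨t, t, ht, ht, hA4⟩)
      rintro _ ⟨a, -, rfl⟩ ha1
      exact hfpf a a.2 ha1
    obtain ⟨g, hg⟩ := IsCyclic.exists_ofOrder_eq_natCard (α := A.map (T : Subgroup G).subtype)
    obtain ⟨a, ha, hag⟩ := g.2
    have h1 : (g : G) ^ t = 1 := by
      rw [← hag, ← map_pow, hA2 a ha, map_one]
    have h2 := orderOf_dvd_of_pow_eq_one h1
    rw [Subgroup.orderOf_coe, hg, hA4] at h2
    have h3 := Nat.le_of_dvd ht.pos h2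
    nlinarith [ht.two_le]
  have hTab : ∀ a ∈ (T : Subgroup G), ∀ b ∈ (T : Subgroup G), a * b = b * a := by
    intro a ha b hb
    let := IsCyclic.commGroup (α := (T : Subgroup G))
    exact congrArg Subtype.val (mul_comm (⟨a, ha⟩ : (T : Subgroup G)) ⟨b, hb⟩)
  have hTcard : Nat.card (T : Subgroup G) = t := by
    obtain ⟨g, hg⟩ := IsCyclic.exists_ofOrder_eq_natCard (α := (T : Subgroup G))
    rw [← hg, ← Subgroup.orderOf_coe]
    apply hTo _ g.2
    intro h
    rw [← Subgroup.orderOf_coe, h, orderOf_one] at hg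
    exact hTne (Subgroup.card_eq_one.mp hg.symm)
  by_cases hN : Subgroup.normalizer ((T : Subgroup G) : Set G) ≤ Subgroup.centralizer ((T : Subgroup G) : Set G)
  · -- transfer
    have hc := MonoidHom.ker_transferSylow_isComplement' T hN
    set K := (MonoidHom.transferSylow T hN).ker with hK
    have hcK := hc.card_mul_card
    have hKne : K ≠ ⊥ := by
      intro h
      rw [h, Subgroup.card_bot, one_mul] at hcK
      have h1 : (T : Subgroup G) = ⊤ := Subgroup.eq_top_of_card_eq _ hcK
      obtain ⟨v, hv, hv1⟩ := V.bot_or_exists_ne_one.resolve_left hV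
      have h2 := hTo v (by rw [h1]; trivial) hv1
      rw [hVo v hv hv1] at h2
      exact hrt h2
    refine ⟨T, (Cfsg.Agent.S0039.result K T hc hKne hTne).mpr ?_, by rw [hTcard]; exact ht⟩
    intro h hh hh1
    rw [eq_bot_iff]
    intro k hk
    obtain ⟨hk1, hk2⟩ := Subgroup.mem_inf.mp hk
    rw [Subgroup.mem_centralizer_singleton_iff] at hk2
    by_contra hne
    -- `k` is a `t'`-element
    have hkr : orderOf k = r := by
      rcases hcases k hne with h1 | h1
      · exact h1
      · exfalso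
        have h2 : t ∣ Nat.card K := by
          rw [← h1, ← Subgroup.orderOf_mk k hk1]
          exact orderOf_dvd_natCard _
        have h3 : t ^ ((Nat.card G).factorization t + 1) ∣ Nat.card G := by
          rw [pow_succ', ← T.card_eq_multiplicity, ← hcK]
          exact mul_dvd_mul_right h2 _
        have h4 := (Nat.Prime.pow_dvd_iff_le_factorization ht Nat.card_pos.ne').mp h3
        omega
    exact hnc h k (hTo h hh hh1) hkr hk2.symm
  · exfalso
    rw [SetLike.not_le_iff_exists] at hN
    obtain ⟨x, hxN, hxC⟩ := hN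
    have hx1 : x ≠ 1 := by
      rintro rfl
      exact hxC (one_mem _)
    -- `x` has order `r`
    have hxr : orderOf x = r := by
      rcases hcases x hx1 with h | h
      · exact h
      · exfalso
        have h1 : IsPGroup t (Subgroup.zpowers x) :=
          Cfsg.Agent.H496.ThreeSizes.isPGroup_zpowers (k := 1) (by rw [pow_one, h])
        have h2 : IsPGroup t (Subgroup.zpowers x ⊔ (T : Subgroup G) : Subgroup G) :=
          h1.to_sup_of_normal_right' T.isPGroup' (Subgroup.zpowers_le.mpr hxN)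
        have h3 := T.is_maximal' h2 le_sup_right
        have h4 : x ∈ (T : Subgroup G) := by
          rw [← h3]
          exact (le_sup_left : Subgroup.zpowers x ≤ _) (Subgroup.mem_zpowers x)
        apply hxC
        rw [Subgroup.mem_centralizer_iff]
        intro y hy
        exact hTab y hy x h4
    have hxT : ∀ n ∈ (T : Subgroup G), x⁻¹ * n * x ∈ (T : Subgroup G) := by
      intro n hn
      have h1 := Subgroup.mem_normalizer_iff.mp (Subgroup.inv_mem _ hxN) n
      rw [inv_inv] at h1
      exact h1.mp hn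
    let : CommGroup V := { (inferInstance : Group V) with mul_comm := hVab.is_comm.comm }
    let φ : G →* MulAut V := MulAut.conjNormal
    have hφ : ∀ (g : G) (v : V), ((φ g v : V) : G) = g * v * g⁻¹ := fun g v => rfl
    have hVp : IsPGroup r V := by
      rw [IsPGroup.iff_orderOf]
      intro v
      by_cases h : v = 1
      · exact ⟨0, by rw [h, orderOf_one, pow_zero]⟩
      · exact ⟨1, by rw [← Subgroup.orderOf_coe, hVo v v.2 (fun h' => h (Subtype.ext h')), pow_one]⟩
    have hxp : IsPGroup r (Subgroup.zpowers x) :=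
      Cfsg.Agent.H496.ThreeSizes.isPGroup_zpowers (k := 1) (by rw [pow_one, hxr])
    have hsup : IsPGroup r (V ⊔ Subgroup.zpowers x : Subgroup G) := hVp.to_sup_of_normal_left hxp
    have hprod : ∀ v : V, ∏ j ∈ Finset.range r, φ (x ^ j) v = 1 := by
      intro v
      have h1 : ((v : G) * x) ^ r = 1 := by
        have h2 : (v : G) * x ∈ (V ⊔ Subgroup.zpowers x : Subgroup G) :=
          Subgroup.mul_mem_sup v.2 (Subgroup.mem_zpowers x)
        obtain ⟨k, hk⟩ := IsPGroup.iff_orderOf.mp hsup ⟨_, h2⟩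
        rw [Subgroup.orderOf_mk] at hk
        by_cases h3 : (v : G) * x = 1
        · rw [h3, one_pow]
        · rcases hcases _ h3 with h4 | h4
          · rw [← h4]
            exact pow_orderOf_eq_one _
          · exfalso
            rw [h4] at hk
            have h5 : t ∣ r := ht.dvd_of_dvd_pow (by rw [← hk])
            exact hrt ((Nat.prime_dvd_prime_iff_eq ht hr).mp h5).symm
      have hpr : ∀ n : ℕ, ((v : G) * x) ^ n =
          ((∏ j ∈ Finset.range n, φ (x ^ j) v : V) : G) * x ^ n := by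
        intro n
        induction n with
        | zero => simp
        | succ n ih =>
          rw [pow_succ ((v : G) * x), ih, Finset.prod_range_succ, Subgroup.coe_mul, hφ, pow_succ]
          group
      rw [hpr, show x ^ r = 1 by rw [← hxr]; exact pow_orderOf_eq_one x, mul_one] at h1
      exact Subtype.ext h1
    have : Fintype (T : Subgroup G) := Fintype.ofFinite _
    have hfin := norm_arg φ (T : Subgroup G) hTab x hxT r hr.pos
      (by
        intro v hv
        obtain ⟨n, hn, hn1⟩ := (T : Subgroup G).bot_or_exists_ne_one.resolve_left hTne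
        have h1 : n * (v : G) * n⁻¹ = v := congrArg Subtype.val (hv n hn)
        rw [mul_inv_eq_iff_eq_mul] at h1
        have h2 : (v : G) ∈ V ⊓ Subgroup.centralizer {n} := by
          refine Subgroup.mem_inf.mpr ⟨v.2, ?_⟩
          rw [Subgroup.mem_centralizer_singleton_iff]
          exact h1.symm
        rw [hfpf n hn hn1, Subgroup.mem_bot] at h2
        exact Subtype.ext h2)
      hprod
      (by
        intro j hj hjr n hn hc
        by_contra hn1
        refine hnc n (x ^ j) (hTo n hn hn1) ?_ hc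
        rw [Nat.Coprime.orderOf_pow, hxr]
        rw [hxr]
        exact (Nat.Prime.coprime_iff_not_dvd hr).mpr (Nat.not_dvd_of_pos_of_lt hj hjr))
    obtain ⟨v, hv, hv1⟩ := V.bot_or_exists_ne_one.resolve_left hV
    have h1 := congrArg Subtype.val (hfin ⟨v, hv⟩)
    rw [hTcard] at h1
    have h2 : v ^ t = 1 := h1
    have h3 := orderOf_dvd_of_pow_eq_one h2
    rw [hVo v hv hv1] at h3
    exact hrt ((Nat.prime_dvd_prime_iff_eq hr ht).mp h3)

end Cfsg.Agent.H496.FrobExp
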